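import Mathlib
import Cfsg.Agent.Lib.Helper8.PG.Defs
import Cfsg.Agent.Lib.Helper76.OCls.ClassOdd
import Cfsg.Agent.Lib.Helper76.OCls.Split
import Cfsg.Agent.Lib.Helper85.OCls.Sing

/-!
# PG (S2474) package [GENEX]

A block of dimension `2 n + 1` can be realised inside the isometry group of `quadFormOdd n`:
classification of odd-dimensional forms up to similarity (`ClassOdd`) and transport of the
isometry along the similarity.
-/

set_option autoImplicit false

namespace Cfsg.Agent.Lib.Helper15.PG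

open Matrix

universe u

theorem pkgGenEx : Cfsg.Agent.Lib.Helper8.PG.PkgGenEx.{u} := by
  intro F _ _ hodd n P hblk
  obtain ⟨κ, hfin, hdec, Q, M, hcard, hnd, hiso, hP⟩ := hblk
  have h2 : (2 : F) ≠ 0 := by
    apply Ring.two_ne_zero
    intro h
    rw [FiniteField.even_card_iff_char_two] at h
    rw [Nat.odd_iff] at hodd
    omega
  have hfr : Module.finrank F (κ → F) = 2 * n + 1 := by
    rw [Module.finrank_fintype_fun_eq_card, hcard]
  obtain ⟨c, φ, hc, hφ⟩ := Cfsg.Agent.Lib.Helper76.OCls.pkgClassOdd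
    Cfsg.Agent.Lib.Helper85.OCls.pkgSing Cfsg.Agent.Lib.Helper76.OCls.pkgSplit h2 Q hnd n hfr
  let e : Matrix κ κ F ≃ₐ[F] Matrix (Cfsg.Agent.Lib.Helper8.PG.OI n) (Cfsg.Agent.Lib.Helper8.PG.OI n) F :=
    (Matrix.toLinAlgEquiv'.trans (φ.conjAlgEquiv F)).trans LinearMap.toMatrixAlgEquiv'
  refine ⟨e M, ?_, ?_⟩
  · intro v
    have h1 : (e M) *ᵥ v = φ (M *ᵥ φ.symm v) := by
      have h3 : Matrix.toLinAlgEquiv' (LinearMap.toMatrixAlgEquiv'
          (φ.conjAlgEquiv F (Matrix.toLinAlgEquiv' M))) v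
          = (φ.conjAlgEquiv F (Matrix.toLinAlgEquiv' M)) v := by
        rw [Matrix.toLinAlgEquiv'_toMatrixAlgEquiv']
      exact h3
    rw [h1, hφ, hiso, ← hφ, LinearEquiv.apply_symm_apply]
  · intro j
    rw [← hP j, ← map_pow]
    constructor
    · intro h
      exact e.injective (h.trans (map_one e).symm)
    · intro h
      rw [h, map_one]

end Cfsg.Agent.Lib.Helper15.PG
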