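import Mathlib
import Cfsg.Agent.Lib.Helper8.PG.Defs
import Cfsg.Agent.Lib.Helper40.PSpRP
import Cfsg.Agent.Lib.Helper61.OCls.Dual
import Cfsg.Agent.Lib.Helper14.Forms

/-!
# PG (S2474) package [ORPNEC]

An isometry of `quadFormOdd n` of exact order `r * p` (`r` an odd prime different from the
characteristic `p`, `n ≥ 2`) forces `η(k) ≤ n - 1`, `k` the order of `q` modulo `r`.
The orthogonal analogue of `Helper40.PSpRP.psp_rp_bound`.
-/

set_option autoImplicit false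

namespace Cfsg.Agent.Lib.Helper15.PG

open Matrix Polynomial Cfsg.Agent.Lib.Helper40.DualPoly Cfsg.Agent.Lib.Helper40.SpExist
  Cfsg.Agent.Lib.Helper40.PrimeOrderGL Cfsg.Agent.Lib.Helper40.GUPrimeOrder
  Cfsg.Agent.Lib.Helper40.PSUCommute Cfsg.Agent.Lib.Helper40.PSpRP

universe u

theorem pkgORPnec : Cfsg.Agent.Lib.Helper8.PG.PkgORPnec.{u} := by
  intro F _ _ hodd p _ _ n hn r k ηk hr hr2 hrp hk hηk hO
  classical
  obtain ⟨g, hgiso, hgord⟩ := hO
  have hpp : p.Prime := Fact.out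
  have h2 : (2 : F) ≠ 0 := by
    apply Ring.two_ne_zero
    intro h
    rw [FiniteField.even_card_iff_char_two] at h
    rw [Nat.odd_iff] at hodd
    omega
  have hpowiso : ∀ (j : ℕ) (v : Cfsg.Agent.Lib.Helper8.PG.OI n → F),
      Cfsg.quadFormOdd n F ((g ^ j) *ᵥ v) = Cfsg.quadFormOdd n F v := by
    intro j
    induction j with
    | zero => intro v; rw [pow_zero, Matrix.one_mulVec]
    | succ j ih => intro v; rw [pow_succ, ← Matrix.mulVec_mulVec, ih, hgiso]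
  obtain ⟨t, ht⟩ : ∃ t : Matrix (Cfsg.Agent.Lib.Helper8.PG.OI n) (Cfsg.Agent.Lib.Helper8.PG.OI n) F,
      t = g ^ p := ⟨_, rfl⟩
  obtain ⟨u, hu⟩ : ∃ u : Matrix (Cfsg.Agent.Lib.Helper8.PG.OI n) (Cfsg.Agent.Lib.Helper8.PG.OI n) F,
      u = g ^ r := ⟨_, rfl⟩
  have htr : t ^ r = 1 := by
    rw [ht, ← pow_mul]
    exact (hgord _).2 ⟨1, by ring⟩
  have hup : u ^ p = 1 := by
    rw [hu, ← pow_mul]
    exact (hgord _).2 ⟨1, by ring⟩
  have ht1 : t ≠ 1 := by
    intro h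
    rw [ht] at h
    have h1 := Nat.le_of_dvd hpp.pos ((hgord p).1 h)
    have h3 := hr.two_le
    have h4 := hpp.pos
    nlinarith
  have hu1 : u ≠ 1 := by
    intro h
    rw [hu] at h
    have h1 := Nat.le_of_dvd hr.pos ((hgord r).1 h)
    have h3 := hpp.two_le
    have h4 := hr.pos
    nlinarith
  have hcm : t * u = u * t := by
    rw [ht, hu, ← pow_add, ← pow_add, add_comm]
  have : Nonempty (Cfsg.Agent.Lib.Helper8.PG.OI n) := ⟨Sum.inl ()⟩
  obtain ⟨N, hNdef⟩ :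
      ∃ N : Matrix (Cfsg.Agent.Lib.Helper8.PG.OI n) (Cfsg.Agent.Lib.Helper8.PG.OI n) F,
        N = u - 1 := ⟨_, rfl⟩
  have hN : IsNilpotent N := by
    refine ⟨p, ?_⟩
    rw [hNdef, sub_pow_char_of_commute p (Commute.one_right u), one_pow, hup, sub_self]
  have hN0 : N ≠ 0 := by
    rw [hNdef]
    exact sub_ne_zero.mpr hu1
  have hcN : t * N = N * t := by
    rw [hNdef, mul_sub, sub_mul, mul_one, one_mul, hcm]
  obtain ⟨S, dg, hS, hSne, hrF, hk0, hdg, hdd, hfix⟩ := exists_sp_data p r k hr hr2 hrp hk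
  obtain ⟨π, hπm, hπirr, hπdvd, hπsq⟩ :=
    exists_sq_dvd_charpoly_matrix' t N hcN r hrF htr hN hN0
  have hcard : Fintype.card (Cfsg.Agent.Lib.Helper8.PG.OI n) = 2 * n + 1 := by
    simp only [Cfsg.Agent.Lib.Helper8.PG.OI, Fintype.card_sum, Fintype.card_fin,
      Fintype.card_unit]
    omega
  obtain ⟨a₀, ha₀, hχ⟩ := charpoly_eq_chi' hS t htr (2 * n + 1) hcard
  have ha₀0 : a₀ ≠ 0 := by
    rintro rfl
    apply ht1
    apply eq_one_of_charpoly' t r hrF htr (2 * n + 1) hcard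
    rw [hχ]
    simp [chi]
  have hinv : ∀ π, a₀ (dg π) = a₀ π := by
    have h1 := Cfsg.Agent.Lib.Helper61.OCls.pkgDual (Cfsg.Agent.Lib.Helper14.oddQF n F)
      (Cfsg.Agent.Lib.Helper14.oddQF_nondegenerate n F h2) t (by
        rw [Cfsg.Agent.Lib.Helper14.oddQF_coe]
        intro v
        rw [ht]
        exact hpowiso p v)
    rw [hχ, dual_chi (RingHom.id F) dg hdd hdg] at h1
    have h3 := chi_inj hS _ _ _ _ h1
    intro π
    exact congrFun h3 π
  rw [hχ] at hπsq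
  obtain ⟨a', ha'0, ha'inv, ha'le⟩ := exists_small_tuple hS a₀ (2 * n + 1 - k * ∑ π, a₀ π)
    (2 * n + 1) (by omega) ha₀0 (by omega) dg hdd hinv π hπm hπirr hπdvd hπsq
  obtain ⟨π₀, hπ₀⟩ : ∃ π₀, a' π₀ ≠ 0 := by
    by_contra hcon
    push Not at hcon
    exact ha'0 (funext hcon)
  have hηk' : (Odd k ∧ ηk = k) ∨ (Even k ∧ 2 * ηk = k) := hηk
  rcases hηk' with ⟨hodd', hη⟩ | ⟨heven, hη⟩
  · have hne : π₀ ≠ dg π₀ := by
      intro h
      exact (Nat.not_even_iff_odd.mpr hodd') ((hfix π₀).mp h.symm)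
    have h1 : a' π₀ + a' (dg π₀) ≤ ∑ π, a' π := by
      rw [← Finset.sum_pair hne]
      exact Finset.sum_le_sum_of_subset (Finset.subset_univ _)
    rw [ha'inv] at h1
    have h3 : k * 2 ≤ k * ∑ π, a' π := Nat.mul_le_mul_left k (by omega)
    omega
  · have h1 : a' π₀ ≤ ∑ π, a' π :=
      Finset.single_le_sum (fun _ _ => Nat.zero_le _) (Finset.mem_univ π₀)
    have h3 : k * 1 ≤ k * ∑ π, a' π := Nat.mul_le_mul_left k (by omega)
    omega

end Cfsg.Agent.Lib.Helper15.PG
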