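import Mathlib
import Cfsg.Agent.Lib.Helper8.PG.Defs

/-!
# PG (S2474) package [ORD4]

`M ^ (2 s) = -1`, `M ^ 2 ≠ ± 1` (`s` an odd prime, `2 ≠ 0`): then `M ^ (2 j) = 1 ↔ 2 s ∣ j`.
-/

set_option autoImplicit false

namespace Cfsg.Agent.Lib.Helper15.PG

open Matrix

universe u

theorem pkgOrd4 : Cfsg.Agent.Lib.Helper8.PG.PkgOrd4.{u} := by
  intro F _ h2 ι _ _ M s hs hs2 hM hne j
  have hT : (M ^ 2) ^ s = -1 := by rw [← pow_mul]; exact hM
  have hT2 : (M ^ 2) ^ (2 * s) = 1 := by
    rw [mul_comm, pow_mul, hT]; simp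
  have hj : M ^ (2 * j) = (M ^ 2) ^ j := by rw [pow_mul]
  rw [hj]
  constructor
  · intro h1
    have ho1 : orderOf (M ^ 2) ∣ j := orderOf_dvd_of_pow_eq_one h1
    have ho2 : orderOf (M ^ 2) ∣ 2 * s := orderOf_dvd_of_pow_eq_one hT2
    have hsodd : Odd s := hs.odd_of_ne_two hs2
    obtain ⟨a, b, ha, hb, hab⟩ := (Nat.dvd_mul).1 ho2
    have ha' := (Nat.dvd_prime Nat.prime_two).1 ha
    have hb' := (Nat.dvd_prime hs).1 hb
    have hpow : (M ^ 2) ^ orderOf (M ^ 2) = 1 := pow_orderOf_eq_one _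
    rcases ha' with rfl | rfl <;> rcases hb' with rfl | rfl
    · -- order 1
      exfalso
      rw [← hab] at hpow
      simp only [mul_one, pow_one] at hpow
      exact hne (Or.inl hpow)
    · -- order s
      exfalso
      rw [← hab, one_mul, hT] at hpow
      -- -1 = 1 as matrices
      by_cases hι : IsEmpty ι
      · exact hne (Or.inl (Subsingleton.elim _ _))
      · rw [not_isEmpty_iff] at hι
        obtain ⟨i⟩ := hι
        have := congrFun (congrFun hpow i) i
        simp only [Matrix.neg_apply, Matrix.one_apply_eq] at this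
        apply h2
        have h3 : (2 : F) = 1 - (-1) := by ring
        rw [h3, this]; ring
    · -- order 2
      exfalso
      rw [← hab, mul_one] at hpow
      obtain ⟨m, hm⟩ := hsodd
      have : (M ^ 2) ^ s = M ^ 2 := by
        rw [hm, pow_succ, pow_mul, hpow, one_pow, one_mul]
      rw [hT] at this
      exact hne (Or.inr this.symm)
    · rw [hab]; exact ho1
  · rintro ⟨c, rfl⟩
    rw [pow_mul, hT2, one_pow]

end Cfsg.Agent.Lib.Helper15.PG
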